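import Cfsg.Agent.H336.LinFour.Weights
import Cfsg.Agent.H351.SpSix.Proj

/-!
# Weights of the elementary abelian subgroup of order 16 of a `Sit` on a module of odd characteristic

`ρ : K →* End W` over a field with `2 ≠ 0`. `wt ρ th u` is the weight space of the character `v ↦ (-1) ^ dt u v`.
All the weight spaces of the `15` nonzero weights have the same dimension `m`:
`finrank W = finrank (wt 0) + 15 m`, and the space of fixed vectors of an involution of `A` has dimension
`finrank (wt 0) + 7 m`. In particular `A` acts trivially if `finrank W < 15`. (helper511)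
-/

set_option autoImplicit false

namespace Cfsg.Agent.H511.LinFour

open Cfsg.Agent.H336.LinFour Cfsg.Agent.H351.SpSix Cfsg.Agent.H336.LinFour.Wt

theorem card_V : Fintype.card V = 16 := by simp [V]

/-- half of the vectors are orthogonal to a nonzero vector -/
theorem card_dt_zero {v : V} (hv : v ≠ 0) : Fintype.card {u : V // dt u v = 0} = 8 := by
  obtain ⟨c, hc⟩ := exists_dt hv
  have h1 : Fintype.card {u : V // dt u v = 0} = Fintype.card {u : V // ¬ dt u v = 0} := by
    refine Fintype.card_congr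
      { toFun := fun u => ⟨u.1 + c, ?_⟩, invFun := fun u => ⟨u.1 + c, ?_⟩, left_inv := fun u => ?_,
        right_inv := fun u => ?_ }
    · rw [dt_add_left, u.2, hc]; decide
    · have := (z2 (dt u.1 v)).resolve_left u.2
      rw [dt_add_left, this, hc]; decide
    · exact Subtype.ext (add_add_self _ _)
    · exact Subtype.ext (add_add_self _ _)
  have h2 := Fintype.card_subtype_compl (fun u : V => dt u v = 0)
  have h3 : Fintype.card V = 16 := card_V
  have h4 : Fintype.card {u : V // dt u v = 0} ≤ Fintype.card V := Fintype.card_subtype_le _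
  omega

section wt

variable {F : Type*} [Field F] {W : Type*} [AddCommGroup W] [Module F W]
  {K : Type*} [Group K] (ρ : K →* Module.End F W) (th : V → K)

/-- the weight space of the character `v ↦ (-1) ^ dt u v` -/
def wt (u : V) : Submodule F W where
  carrier := {w | ∀ v, ρ (th v) w = sg F (dt u v) • w}
  add_mem' := by
    intro a b ha hb v
    rw [map_add, ha v, hb v, smul_add]
  zero_mem' := by intro v; rw [map_zero, smul_zero]
  smul_mem' := by
    intro c a ha v
    rw [map_smul, ha v, smul_comm]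

variable {ρ th}

theorem mem_wt {u : V} {w : W} : w ∈ wt ρ th u ↔ ∀ v, ρ (th v) w = sg F (dt u v) • w := Iff.rfl

variable (ρ th)

/-- the projection onto a weight space -/
noncomputable def pr (u : V) : W →ₗ[F] W := P F (fun v => ρ (th v)) u

/-- the fixed vectors of an element of `A` -/
def fx (v : V) : Submodule F W where
  carrier := {w | ρ (th v) w = w}
  add_mem' := by
    intro a b (ha : ρ (th v) a = a) (hb : ρ (th v) b = b)
    show ρ (th v) (a + b) = a + b
    rw [map_add, ha, hb]
  zero_mem' := map_zero _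
  smul_mem' := by
    intro c a (ha : ρ (th v) a = a)
    show ρ (th v) (c • a) = c • a
    rw [map_smul, ha]

variable {ρ th}

theorem mem_fx {v : V} {w : W} : w ∈ fx ρ th v ↔ ρ (th v) w = w := Iff.rfl

theorem wt_le_fx {u v : V} (h : dt u v = 0) : wt ρ th u ≤ fx ρ th v := by
  intro w hw
  rw [mem_fx, hw v, h, sg_zero, one_smul]

variable {O K0 : Subgroup K} (h : Sit th O K0)

include h

theorem rho_add (u v : V) : (fun v => ρ (th v)) (u + v) = (fun v => ρ (th v)) u * (fun v => ρ (th v)) v := by
  show ρ (th (u + v)) = ρ (th u) * ρ (th v)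
  rw [h.add, map_mul]

theorem pr_mem (u : V) (w : W) : pr ρ th u w ∈ wt ρ th u := by
  intro v'
  have h1 := Y_mul_P F (Y := fun v => ρ (th v)) (fun u v => rho_add h u v) u v'
  exact LinearMap.congr_fun h1 w

theorem sum_pr (h2 : (2 : F) ≠ 0) (w : W) : ∑ u : V, pr ρ th u w = w := by
  have h1 := sum_P F (Y := fun v => ρ (th v)) h2 (by show ρ (th 0) = 1; rw [h.zero, map_one])
  have h3 := LinearMap.congr_fun h1 w
  rw [LinearMap.sum_apply] at h3
  exact h3

omit h in
theorem pr_apply (u : V) (w : W) : pr ρ th u w = (16 : F)⁻¹ • ∑ v : V, sg F (dt u v) • ρ (th v) w := by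
  simp only [pr, P, LinearMap.smul_apply, LinearMap.sum_apply]

omit h in
theorem pr_self (h2 : (2 : F) ≠ 0) {u : V} {w : W} (hw : w ∈ wt ρ th u) : pr ρ th u w = w := by
  rw [pr_apply]
  have h1 : ∀ v : V, sg F (dt u v) • ρ (th v) w = sg F (dt 0 v) • w := by
    intro v
    rw [hw v, smul_smul, sg_mul_self, dt_zero_left, sg_zero]
  rw [Finset.sum_congr rfl fun v _ => h1 v, ← Finset.sum_smul, sum_sg F h2, if_pos rfl, smul_smul,
    inv_mul_cancel₀ (h16 F h2), one_smul]

omit h in
theorem pr_ne (h2 : (2 : F) ≠ 0) {u u' : V} (hu : u ≠ u') {w : W} (hw : w ∈ wt ρ th u') : pr ρ th u w = 0 := by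
  rw [pr_apply]
  have h1 : ∀ v : V, sg F (dt u v) • ρ (th v) w = sg F (dt (u + u') v) • w := by
    intro v
    rw [hw v, smul_smul, ← sg_add, dt_add_left]
  rw [Finset.sum_congr rfl fun v _ => h1 v, ← Finset.sum_smul,
    sum_sg F h2, if_neg (fun h => hu ((add_eq_zero_iff _ _).1 h)), zero_smul, smul_zero]

/-- the decomposition into weight spaces -/
theorem sys (h2 : (2 : F) ≠ 0) : Proj.Sys (wt ρ th) (pr ρ th) :=
  ⟨fun u w => pr_mem h u w, fun w => sum_pr h h2 w, fun _ _ hw => pr_self h2 hw, fun _ _ hu _ hw => pr_ne h2 hu hw⟩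

theorem pr_fx (h2 : (2 : F) ≠ 0) {u v : V} (huv : dt u v ≠ 0) {w : W} (hw : w ∈ fx ρ th v) : pr ρ th u w = 0 := by
  have h1 : dt u v = 1 := (z2 _).resolve_left huv
  have h3 : ρ (th v) (pr ρ th u w) = sg F (dt u v) • pr ρ th u w := pr_mem h u w v
  have h4 : ρ (th v) (pr ρ th u w) = pr ρ th u w := by
    rw [pr_apply, map_smul, map_sum]
    congr 1
    refine Finset.sum_congr rfl fun v' _ => ?_
    rw [map_smul, ← Module.End.mul_apply, ← map_mul, h.comm, map_mul, Module.End.mul_apply, mem_fx.1 hw]
  rw [h4, h1, sg_one, neg_one_smul] at h3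
  have h5 : (2 : F) • pr ρ th u w = 0 := by
    rw [two_smul]
    nth_rw 1 [h3]
    rw [neg_add_cancel]
  exact (smul_eq_zero.1 h5).resolve_left h2

theorem mem_fx_iff (h2 : (2 : F) ≠ 0) (v : V) (w : W) : w ∈ fx ρ th v ↔ ∀ u, ¬ dt u v = 0 → pr ρ th u w = 0 := by
  constructor
  · intro hw u hu
    exact pr_fx h h2 hu hw
  · intro hw
    rw [← sum_pr (ρ := ρ) h h2 w]
    refine Submodule.sum_mem _ fun u _ => ?_
    by_cases hu : dt u v = 0
    · exact wt_le_fx hu (pr_mem h u w)
    · rw [hw u hu]; exact Submodule.zero_mem _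

omit h in
/-- an element of the normaliser permutes the weight spaces -/
theorem map_wt {k : K} {g : V ≃+ V} (hk : ∀ v, k * th v * k⁻¹ = th (g v)) {c d : V} (hg : ∀ v, dt c (g v) = dt d v)
    {w : W} (hw : w ∈ wt ρ th d) : ρ k w ∈ wt ρ th c := by
  intro v
  have h1 : th v * k = k * th (g.symm v) := by
    have := hk (g.symm v)
    rw [AddEquiv.apply_symm_apply] at this
    rw [← this]; group
  rw [← Module.End.mul_apply, ← map_mul, h1, map_mul, Module.End.mul_apply, hw, map_smul]
  congr 2
  rw [← hg, AddEquiv.apply_symm_apply]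

theorem finrank_wt_le [FiniteDimensional F W] {u v : V} (hu : u ≠ 0) (hv : v ≠ 0) :
    Module.finrank F (wt ρ th u) ≤ Module.finrank F (wt ρ th v) := by
  obtain ⟨g, hg⟩ := exists_map_dual hv hu
  obtain ⟨k, -, hk⟩ := h.full g
  have hmap : ∀ w ∈ wt ρ th u, ρ k w ∈ wt ρ th v := fun w hw => map_wt (ρ := ρ) hk hg hw
  refine LinearMap.finrank_le_finrank_of_injective (f := (ρ k).restrict hmap) ?_
  intro a b hab
  apply Subtype.ext
  have h1 : ρ k a.1 = ρ k b.1 := congrArg Subtype.val hab
  have h3 : ρ k⁻¹ (ρ k a.1) = ρ k⁻¹ (ρ k b.1) := congrArg _ h1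
  rwa [← Module.End.mul_apply, ← Module.End.mul_apply, ← map_mul, inv_mul_cancel, map_one, Module.End.one_apply,
    Module.End.one_apply] at h3

theorem finrank_wt_eq [FiniteDimensional F W] {u v : V} (hu : u ≠ 0) (hv : v ≠ 0) :
    Module.finrank F (wt ρ th u) = Module.finrank F (wt ρ th v) :=
  le_antisymm (finrank_wt_le h hu hv) (finrank_wt_le h hv hu)

/-- **the dimension of the module** -/
theorem finrank_eq [FiniteDimensional F W] (h2 : (2 : F) ≠ 0) {u : V} (hu : u ≠ 0) :
    Module.finrank F W = Module.finrank F (wt ρ th 0) + 15 * Module.finrank F (wt ρ th u) := by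
  rw [(sys (ρ := ρ) h h2).finrank_top, Proj.sum_eq_of_const (fun v => Module.finrank F (wt ρ th v)) 0
    (Module.finrank F (wt ρ th u)) (fun v hv => finrank_wt_eq h hv hu), card_V]

/-- **the dimension of the fixed space of an involution of `A`** -/
theorem finrank_fx [FiniteDimensional F W] (h2 : (2 : F) ≠ 0) {u v : V} (hu : u ≠ 0) (hv : v ≠ 0) :
    Module.finrank F (fx ρ th v) = Module.finrank F (wt ρ th 0) + 7 * Module.finrank F (wt ρ th u) := by
  have h0 : dt 0 v = 0 := dt_zero_left v
  have h1 := card_dt_zero hv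
  rw [(sys (ρ := ρ) h h2).finrank (fun u => dt u v = 0) (fun w => mem_fx_iff h h2 v w),
    Proj.sum_eq_of_const (fun x : {u : V // dt u v = 0} => Module.finrank F (wt ρ th x.1)) ⟨0, h0⟩
    (Module.finrank F (wt ρ th u)) (fun x hx => finrank_wt_eq h (fun hh => hx (Subtype.ext hh)) hu), h1]

/-- the nonzero weights occur if `A` acts non-trivially -/
theorem finrank_pos [FiniteDimensional F W] (h2 : (2 : F) ≠ 0) {v : V} (hv : ρ (th v) ≠ 1) {u : V} (hu : u ≠ 0) :
    0 < Module.finrank F (wt ρ th u) := by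
  by_contra hc
  have h0 : Module.finrank F (wt ρ th u) = 0 := Nat.eq_zero_of_not_pos hc
  apply hv
  ext w
  rw [Module.End.one_apply]
  have h1 : w ∈ wt ρ th 0 := by
    rw [← sum_pr (ρ := ρ) h h2 w]
    refine Submodule.sum_mem _ fun x _ => ?_
    by_cases hx : x = 0
    · subst hx; exact pr_mem h 0 w
    · have h3 : Module.finrank F (wt ρ th x) = 0 := (finrank_wt_eq h hx hu).trans h0
      have h4 : wt ρ th x = ⊥ := Submodule.finrank_eq_zero.1 h3
      have h5 := pr_mem (ρ := ρ) h x w
      rw [h4, Submodule.mem_bot] at h5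
      rw [h5]; exact Submodule.zero_mem _
  rw [h1 v, dt_zero_left, sg_zero, one_smul]

/-- **a module of dimension `< 15` is trivial for `A`** -/
theorem rho_eq_one [FiniteDimensional F W] (h2 : (2 : F) ≠ 0) (hd : Module.finrank F W < 15) (v : V) :
    ρ (th v) = 1 := by
  by_contra hv
  have hu : (Pi.single 0 1 : V) ≠ 0 := by
    intro hh; have := congrFun hh 0; simp at this
  have h1 := finrank_eq (ρ := ρ) h h2 hu
  have h3 := finrank_pos h h2 hv hu
  omega

/-- **no faithful module of dimension `< 15`** -/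
theorem false_of_injective [FiniteDimensional F W] (h2 : (2 : F) ≠ 0) (hd : Module.finrank F W < 15)
    (hinj : ∀ k : K, ρ k = 1 → k = 1) : False := by
  have hu : (Pi.single 0 1 : V) ≠ 0 := by
    intro hh; have := congrFun hh 0; simp at this
  exact hu ((h.eq_one_iff _).1 (hinj _ (rho_eq_one h h2 hd _)))

/-- **no faithful matrix representation of degree `< 15`** -/
theorem false_of_GL (h2 : (2 : F) ≠ 0) {ι : Type*} [Fintype ι] [DecidableEq ι] (hd : Fintype.card ι < 15)
    (φ : K →* GL ι F) (hφ : Function.Injective φ) : False := by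
  let r : K →* Module.End F (ι → F) :=
    { toFun := fun k => Matrix.mulVecLin (φ k : Matrix ι ι F)
      map_one' := by rw [map_one, Units.val_one, Matrix.mulVecLin_one]; rfl
      map_mul' := fun a b => by rw [map_mul, Units.val_mul, Matrix.mulVecLin_mul]; rfl }
  refine false_of_injective (ρ := r) h h2 (by rwa [Module.finrank_fintype_fun_eq_card]) ?_
  intro k hk
  apply hφ
  rw [map_one]
  apply Units.ext
  rw [Units.val_one]
  apply Matrix.ext_of_mulVec_single
  intro i
  rw [Matrix.one_mulVec]
  exact LinearMap.congr_fun hk (Pi.single i 1)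

end wt

end Cfsg.Agent.H511.LinFour
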