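import Cfsg.Agent.H511.LinFour.Wt
import Cfsg.Agent.H336.LinFour.Equiv
import Cfsg.Agent.Cit.HexD4
import Cfsg.Agent.Cit.HexG2
import Cfsg.Agent.Cit.HexInv
import Cfsg.Prelude.Def_LieTypeChar

/-!
# The rows `G₂(q)`, `³D₄(q)`, `²G₂(q)`, `q` odd (S1918, task 3159)

`G₂(q)` and `³D₄(q)` have one class of involutions, `C(z) = K₁ K₄ T₀` with `K₁`, `K₄` commuting groups `SL₂`,
`K₁ ∩ K₄ = ⟨z⟩`. `A / ⟨z⟩` would embed into `K₁ / ⟨z⟩ ≅ PSL₂`, but three pairwise anticommuting elements of `SL₂` of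
square `-1` do not exist with all products anticommuting. (helper511)
-/

set_option autoImplicit false

namespace Cfsg.Agent.H511.LinFour

open Subgroup Cfsg Cfsg.Lie Cfsg.Agent.H336.LinFour Cfsg.Agent.Cit Cfsg.Agent.Cit.HexBase Cfsg.Agent.Lib.SL2Mat

universe u

section hex

variable {E : Type*} [Field E] [Finite E] {σ : E ≃+* E} {L : Type u} [Group L] (c : HexGrp σ L)

theorem nml1 (h2 : (2 : E) ≠ 0) {x : L} (hx : x * c.z = c.z * x) {y : L} (hy : y ∈ c.K1) :
    x * y * x⁻¹ ∈ c.K1 := by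
  obtain ⟨u, v, t, ht, rfl⟩ := c.mem_CZ_form h2 hx
  obtain ⟨y, rfl⟩ := hy
  have e : c.pb u * c.p4 v * c.pa (dg t ht) * c.pb y * (c.pb u * c.p4 v * c.pa (dg t ht))⁻¹ =
      c.pb u * (c.p4 v * (c.pa (dg t ht) * c.pb y * (c.pa (dg t ht))⁻¹) * (c.p4 v)⁻¹) * (c.pb u)⁻¹ := by group
  rw [e, c.pa_dg_pb, ← c.comm_pb_p4, mul_inv_cancel_right, ← map_inv, ← map_mul, ← map_mul]
  exact ⟨_, rfl⟩

theorem nml4 (h2 : (2 : E) ≠ 0) {x : L} (hx : x * c.z = c.z * x) {y : L} (hy : y ∈ c.K4) :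
    x * y * x⁻¹ ∈ c.K4 := by
  obtain ⟨u, v, t, ht, rfl⟩ := c.mem_CZ_form h2 hx
  obtain ⟨y, rfl⟩ := hy
  have e : c.pb u * c.p4 v * c.pa (dg t ht) * c.p4 y * (c.pb u * c.p4 v * c.pa (dg t ht))⁻¹ =
      c.pb u * (c.p4 v * (c.pa (dg t ht) * c.p4 y * (c.pa (dg t ht))⁻¹) * (c.p4 v)⁻¹) * (c.pb u)⁻¹ := by group
  rw [e, c.pa_dg_p4 h2, ← map_inv, ← map_mul, ← map_mul, c.comm_pb_p4, mul_inv_cancel_right]
  exact ⟨_, rfl⟩

/-- the product `K₁ K₄` -/
def Q : Subgroup L := (c.pb.noncommCoprod c.p4 fun x y => c.comm_pb_p4 x y).range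

omit [Finite E] in
theorem mem_Q {g : L} : g ∈ Q c ↔ ∃ k ∈ c.K1, ∃ l ∈ c.K4, g = k * l := by
  constructor
  · rintro ⟨⟨x, y⟩, rfl⟩
    exact ⟨_, ⟨x, rfl⟩, _, ⟨y, rfl⟩, rfl⟩
  · rintro ⟨_, ⟨x, rfl⟩, _, ⟨y, rfl⟩, rfl⟩
    exact ⟨(x, y), rfl⟩

theorem nmlQ (h2 : (2 : E) ≠ 0) {x : L} (hx : x * c.z = c.z * x) {g : L} (hg : g ∈ Q c) : x * g * x⁻¹ ∈ Q c := by
  rw [mem_Q] at hg ⊢
  obtain ⟨k, hk, l, hl, rfl⟩ := hg
  exact ⟨_, nml1 c h2 hx hk, _, nml4 c h2 hx hl, by group⟩

omit [Finite E] in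
theorem comm14 {k l : L} (hk : k ∈ c.K1) (hl : l ∈ c.K4) : k * l = l * k := by
  obtain ⟨x, rfl⟩ := hk
  obtain ⟨y, rfl⟩ := hl
  exact c.comm_pb_p4 x y

omit [Finite E] in
theorem inter14 {g : L} (h1 : g ∈ c.K1) (h4 : g ∈ c.K4) : g = 1 ∨ g = c.z := by
  obtain ⟨x, rfl⟩ := h1
  obtain ⟨y, hy⟩ := h4
  exact c.eq_of_pb_eq_p4 hy.symm

/-- the product of two nonsquares is a square -/
theorem isSquare_mul {P : Type*} [Field P] [Finite P] {s t : P} (hs0 : s ≠ 0) (ht0 : t ≠ 0) (hs : ¬ IsSquare s)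
    (ht : ¬ IsSquare t) : IsSquare (s * t) := by
  classical
  have := Fintype.ofFinite P
  have h1 : quadraticChar P s = -1 := (quadraticChar_dichotomy hs0).resolve_left fun h =>
    hs ((quadraticChar_one_iff_isSquare hs0).1 h)
  have h3 : quadraticChar P t = -1 := (quadraticChar_dichotomy ht0).resolve_left fun h =>
    ht ((quadraticChar_one_iff_isSquare ht0).1 h)
  rw [← quadraticChar_one_iff_isSquare (mul_ne_zero hs0 ht0), map_mul, h1, h3]
  norm_num

omit [Finite E] in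
theorem mem_Q_of_square {g k l : L} (hk : k ∈ c.K1) (hl : l ∈ c.K4) {t : ↥(HexBase.fx σ)} (ht : t ≠ 0)
    (hs : IsSquare t) (hg : g = k * l * c.pa (dg t ht)) : g ∈ Q c := by
  obtain ⟨a, rfl⟩ := hs
  have ha : a ≠ 0 := by
    rintro rfl
    exact ht (mul_zero _)
  have h1 := c.pa_dg_sq a ha
  have e : c.pa (dg (a * a) ht) = c.pa (dg (a ^ 2) (pow_ne_zero 2 ha)) := by
    congr 1
    congr 1
    rw [pow_two]
  rw [hg, e, h1]
  refine mul_mem ((mem_Q c).2 ⟨k, hk, l, hl, rfl⟩) ((mem_Q c).2 ⟨_, inv_mem ⟨_, rfl⟩, _, ⟨_, rfl⟩, rfl⟩)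

theorem false_aux (h2 : (2 : E) ≠ 0) {th : V → L} {O K0 : Subgroup L} (h : Sit th O K0)
    (hz : th (Pi.single 0 1) = c.z) : False := by
  have hc : ∀ v, th v * c.z = c.z * th v := fun v => by rw [← hz]; exact h.comm _ _
  have ha : (Pi.single 0 1 : V) ≠ 0 := by decide
  have hcK : ∀ k ∈ K0, k * th (Pi.single 0 1) = th (Pi.single 0 1) * k → k * c.z = c.z * k := fun k _ hk => by
    rwa [hz] at hk
  have hz0 : c.z ≠ 1 := c.z_ne h2
  -- `A ≤ K₁ K₄`
  have hA : ∀ v, th v ∈ Q c := by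
    rcases h.inter_cases ha (Q c) (fun k hk hk' x hx => nmlQ c h2 (hcK k hk hk') hx) with h1 | h1 | h1
    · refine absurd ((h1 (Pi.single 0 1)).1 ?_) ha
      rw [hz, mem_Q]
      exact ⟨_, c.z_mem_K1, 1, one_mem _, by rw [mul_one]⟩
    · exfalso
      obtain ⟨x, y, t, ht, e⟩ := c.mem_CZ_form h2 (hc (Pi.single 1 1))
      obtain ⟨x', y', t', ht', e'⟩ := c.mem_CZ_form h2 (hc (Pi.single 2 1))
      have hs : ¬ IsSquare t := fun hs => by
        have := (h1 _).1 (mem_Q_of_square c ⟨x, rfl⟩ ⟨y, rfl⟩ ht hs e)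
        revert this; decide
      have hs' : ¬ IsSquare t' := fun hs => by
        have := (h1 _).1 (mem_Q_of_square c ⟨x', rfl⟩ ⟨y', rfl⟩ ht' hs e')
        revert this; decide
      have h5 : th (Pi.single 1 1 + Pi.single 2 1) ∈ Q c := by
        have hT : c.pa (dg t ht) * c.z = c.z * c.pa (dg t ht) := c.T0_comm ⟨_, _, c.act_a t ht⟩ c.z_mem_T0
        have e1 : th (Pi.single 1 1 + Pi.single 2 1) =
            (c.pb x * c.p4 y) * (c.pa (dg t ht) * (c.pb x' * c.p4 y') * (c.pa (dg t ht))⁻¹) *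
              c.pa (dg (t * t') (mul_ne_zero ht ht')) := by
          have e2 : dg (t * t') (mul_ne_zero ht ht') = dg t ht * dg t' ht' := by
            apply ext_ent <;> simp [ent_mul]
            ring
          rw [h.add, e, e', e2, map_mul]
          group
        obtain ⟨k, hk, l, hl, e3⟩ := (mem_Q c).1 (mul_mem ((mem_Q c).2 ⟨_, ⟨x, rfl⟩, _, ⟨y, rfl⟩, rfl⟩)
          (nmlQ c h2 hT ((mem_Q c).2 ⟨_, ⟨x', rfl⟩, _, ⟨y', rfl⟩, rfl⟩)))
        rw [e3] at e1
        exact mem_Q_of_square c hk hl _ (isSquare_mul ht ht' hs hs') e1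
      have := (h1 _).1 h5
      revert this; decide
    · exact h1
  have hA4 : ∀ v, th v ∈ c.K4 → v = 0 ∨ v = Pi.single 0 1 := by
    intro v hv
    obtain ⟨w, hw⟩ := hv
    have h1 : c.p4 w * c.p4 w = 1 := by rw [hw, h.sq]
    rcases c.p4_sq h2 h1 with h3 | h3
    · left
      rw [← h.eq_one_iff, ← hw, h3]
    · right
      apply h.inj
      rw [hz, ← hw, h3]
  choose k hk l hl e using fun v => (mem_Q c).1 (hA v)
  have hzk : ∀ v, c.z * k v = k v * c.z := by
    intro v
    obtain ⟨x, hx⟩ := hk v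
    rw [← hx]
    exact c.z_pb x
  -- the projection
  have hadd : ∀ u v, k u * k v = k (u + v) ∨ k u * k v = c.z * k (u + v) := by
    intro u v
    have h1 : k u * k v * (k (u + v))⁻¹ = l (u + v) * (l v)⁻¹ * (l u)⁻¹ := by
      have h3 := h.add u v
      rw [e, e u, e v] at h3
      have h4 : k u * l u * (k v * l v) = k u * k v * (l u * l v) := by
        have := comm14 c (hk v) (hl u)
        calc k u * l u * (k v * l v) = k u * (l u * k v) * l v := by group
          _ = k u * (k v * l u) * l v := by rw [this]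
          _ = _ := by group
      rw [h4] at h3
      have h5 : l (u + v) * (l v)⁻¹ * (l u)⁻¹ = (k (u + v))⁻¹ * (k u * k v) := by
        calc l (u + v) * (l v)⁻¹ * (l u)⁻¹ = (k (u + v))⁻¹ * (k (u + v) * l (u + v)) * (l u * l v)⁻¹ := by group
          _ = (k (u + v))⁻¹ * (k u * k v) := by rw [h3]; group
      have h6 : (k (u + v))⁻¹ * (k u * k v) ∈ c.K4 := by
        rw [← h5]
        exact mul_mem (mul_mem (hl _) (inv_mem (hl _))) (inv_mem (hl _))
      have h7 : (k (u + v))⁻¹ * (k u * k v) ∈ c.K1 := mul_mem (inv_mem (hk _)) (mul_mem (hk _) (hk _))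
      rw [h5]
      rcases inter14 c h7 h6 with h8 | h8
      · rw [h8]
        have : k u * k v = k (u + v) := by
          calc k u * k v = k (u + v) * ((k (u + v))⁻¹ * (k u * k v)) := by group
            _ = _ := by rw [h8, mul_one]
        rw [this, mul_inv_cancel]
      · rw [h8]
        have : k u * k v = k (u + v) * c.z := by
          calc k u * k v = k (u + v) * ((k (u + v))⁻¹ * (k u * k v)) := by group
            _ = _ := by rw [h8]
        rw [this, ← hzk, mul_inv_cancel_right]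
    have h3 : k u * k v * (k (u + v))⁻¹ ∈ c.K4 := by
      rw [h1]
      exact mul_mem (mul_mem (hl _) (inv_mem (hl _))) (inv_mem (hl _))
    have h4 : k u * k v * (k (u + v))⁻¹ ∈ c.K1 := mul_mem (mul_mem (hk _) (hk _)) (inv_mem (hk _))
    rcases inter14 c h4 h3 with h5 | h5
    · left; exact mul_inv_eq_one.1 h5
    · right; exact mul_inv_eq_iff_eq_mul.1 h5
  have hker : ∀ v, (k v = 1 ∨ k v = c.z) → v = 0 ∨ v = Pi.single 0 1 := by
    intro v hv
    apply hA4
    rw [e]
    rcases hv with hv | hv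
    · rw [hv, one_mul]; exact hl v
    · rw [hv]; exact mul_mem c.z_mem_K4 (hl v)
  have h0 : k 0 = 1 ∨ k 0 = c.z := by
    have h1 := e 0
    rw [h.zero] at h1
    refine inter14 c (hk 0) ?_
    rw [eq_inv_of_mul_eq_one_left h1.symm]
    exact inv_mem (hl 0)
  have hsq : ∀ v, v ≠ 0 → v ≠ Pi.single 0 1 → k v * k v = c.z := by
    intro v hv hva
    have h1 := hadd v v
    rw [v_add_self] at h1
    have h3 : k v * k v = 1 ∨ k v * k v = c.z := by
      rcases h0 with h0 | h0 <;> rw [h0] at h1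
      · rw [mul_one] at h1; exact h1
      · rw [c.z_sq] at h1; exact h1.symm
    refine h3.resolve_left fun h4 => ?_
    obtain ⟨x, hx⟩ := hk v
    rw [← hx] at h4
    have h5 := c.pb_sq h2 h4
    rw [hx] at h5
    rcases hker v h5 with h6 | h6
    · exact hv h6
    · exact hva h6
  have hanti : ∀ u v, u ≠ 0 → u ≠ Pi.single 0 1 → v ≠ 0 → v ≠ Pi.single 0 1 → u + v ≠ 0 → u + v ≠ Pi.single 0 1 →
      k u * k v = c.z * (k v * k u) := by
    intro u v hu hua hv hva huv huva
    have hne : k u * k v ≠ k v * k u := by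
      intro hcm
      have h1 : k u * k v * (k u * k v) = 1 := by
        calc k u * k v * (k u * k v) = k u * (k v * k u) * k v := by group
          _ = k u * (k u * k v) * k v := by rw [hcm]
          _ = (k u * k u) * (k v * k v) := by group
          _ = 1 := by rw [hsq u hu hua, hsq v hv hva, c.z_sq]
      obtain ⟨x, hx⟩ := mul_mem (hk u) (hk v)
      change c.pb x = _ at hx
      rw [← hx] at h1
      have h5 := c.pb_sq h2 h1
      rw [hx] at h5
      have h6 : k (u + v) = 1 ∨ k (u + v) = c.z := by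
        rcases hadd u v with h7 | h7
        · rwa [← h7]
        · have h8 : k (u + v) = c.z * (k u * k v) := by
            rw [h7, ← mul_assoc, c.z_sq, one_mul]
          rw [h8]
          rcases h5 with h5 | h5
          · right; rw [h5, mul_one]
          · left; rw [h5, c.z_sq]
      rcases hker _ h6 with h7 | h7
      · exact huv h7
      · exact huva h7
    have h1 := hadd u v
    have h3 := hadd v u
    rw [add_comm v u] at h3
    rcases h1 with h1 | h1 <;> rcases h3 with h3 | h3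
    · exact absurd (h1.trans h3.symm) hne
    · rw [h1, h3, ← mul_assoc, c.z_sq, one_mul]
    · rw [h1, h3]
    · exact absurd (h1.trans h3.symm) hne
  -- the contradiction
  have a12 := hanti (Pi.single 1 1) (Pi.single 2 1) (by decide) (by decide) (by decide) (by decide) (by decide)
    (by decide)
  have a13 := hanti (Pi.single 1 1) (Pi.single 3 1) (by decide) (by decide) (by decide) (by decide) (by decide)
    (by decide)
  have a123 := hanti (Pi.single 1 1) (Pi.single 2 1 + Pi.single 3 1) (by decide) (by decide) (by decide) (by decide)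
    (by decide) (by decide)
  have b1 : k (Pi.single 1 1) * (k (Pi.single 2 1) * k (Pi.single 3 1)) =
      (k (Pi.single 2 1) * k (Pi.single 3 1)) * k (Pi.single 1 1) := by
    calc k (Pi.single 1 1) * (k (Pi.single 2 1) * k (Pi.single 3 1)) =
        (k (Pi.single 1 1) * k (Pi.single 2 1)) * k (Pi.single 3 1) := by group
      _ = c.z * k (Pi.single 2 1) * (k (Pi.single 1 1) * k (Pi.single 3 1)) := by rw [a12]; group
      _ = (c.z * k (Pi.single 2 1)) * c.z * (k (Pi.single 3 1) * k (Pi.single 1 1)) := by rw [a13]; group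
      _ = (k (Pi.single 2 1) * (c.z * c.z)) * (k (Pi.single 3 1) * k (Pi.single 1 1)) := by rw [hzk]; group
      _ = _ := by rw [c.z_sq, mul_one]; group
  have b2 : k (Pi.single 1 1) * k (Pi.single 2 1 + Pi.single 3 1) =
      k (Pi.single 2 1 + Pi.single 3 1) * k (Pi.single 1 1) := by
    rcases hadd (Pi.single 2 1) (Pi.single 3 1) with h7 | h7
    · rw [← h7]; exact b1
    · rw [h7] at b1
      have h8 : c.z * (k (Pi.single 1 1) * k (Pi.single 2 1 + Pi.single 3 1)) =
          c.z * (k (Pi.single 2 1 + Pi.single 3 1) * k (Pi.single 1 1)) := by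
        calc c.z * (k (Pi.single 1 1) * k (Pi.single 2 1 + Pi.single 3 1)) =
            (c.z * k (Pi.single 1 1)) * k (Pi.single 2 1 + Pi.single 3 1) := by group
          _ = k (Pi.single 1 1) * (c.z * k (Pi.single 2 1 + Pi.single 3 1)) := by rw [hzk]; group
          _ = _ := by rw [b1]; group
      exact mul_left_cancel h8
  rw [b2] at a123
  exact hz0 (right_eq_mul.1 a123)

include c in
/-- **groups of type `G₂`, `³D₄` in odd characteristic** -/
theorem false_of_hex [Finite L] (h2 : (2 : E) ≠ 0) {th : V → L} {O K0 : Subgroup L} (h : Sit th O K0) : False := by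
  have ha : (Pi.single 0 1 : V) ≠ 0 := by decide
  obtain ⟨g, hg⟩ := isConj_iff.1 (c.isConj_z h2 (h.sq (Pi.single 0 1)) fun h1 => ha ((h.eq_one_iff _).1 h1))
  exact false_aux c h2 (h.equiv (MulAut.conj g)) hg

end hex

variable {K : Type u} [Group K] {th : V → K} {O K0 : Subgroup K}

/-- a subgroup of a Chevalley group on its Lie algebra of dimension `< 15`, in odd characteristic -/
theorem false_of_subgroup (h : Sit th O K0) {F : Type*} [Field F] (h2 : (2 : F) ≠ 0) (D : ChevalleyDatum)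
    (hD : D.rank + D.nroots < 15) (H : Subgroup (GL D.Idx F)) (e : K ≃* H) : False := by
  refine false_of_GL h h2 (ι := D.Idx) ?_ (H.subtype.comp e.toMonoidHom)
    (H.subtype_injective.comp e.injective)
  rw [Fintype.card_sum, Fintype.card_fin, Fintype.card_fin]
  exact hD

theorem row_chevG2 (h : Sit th O K0) {F : Type*} [Field F] (h2 : (2 : F) ≠ 0) (e : K ≃* chevG2.group F) : False :=
  false_of_subgroup h h2 chevG2 (by show 2 + 12 < 15; norm_num) _ e

theorem row_Ree (h : Sit th O K0) (hR : IsoRee K) : False := by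
  obtain ⟨F, i1, i2, m, -, hF, ⟨e⟩⟩ := hR
  refine false_of_subgroup h (F := F) ?_ chevG2 (by show 2 + 12 < 15; norm_num) _ e
  intro h2
  have h3 : ((Fintype.card F : ℕ) : F) = 0 := Nat.cast_card_eq_zero F
  rw [hF, Nat.cast_pow, pow_eq_zero_iff (by omega)] at h3
  have h4 : (1 : F) = 0 := by
    have : (1 : F) = ((3 : ℕ) : F) - 2 := by norm_num
    rw [this, h3, h2, sub_zero]
  exact one_ne_zero h4

theorem charP_two {F : Type*} [Field F] (h2 : (2 : F) = 0) : CharP F 2 :=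
  CharTwo.of_one_ne_zero_of_two_eq_zero one_ne_zero h2

/-- **task 3159** -/
theorem row_excA (hK : IsoChevG2 K ∨ Iso3D4 K ∨ IsoRee K) (hchar : ¬ IsLieTypeChar 2 K)
    (h : Sit th O K0) : False := by
  rcases hK with hK | hK | hK
  · obtain ⟨F, i1, i2, h3, ⟨e⟩⟩ := hK
    by_cases h2 : (2 : F) = 0
    · have := charP_two h2
      exact hchar (Or.inr (Or.inr (Or.inr (Or.inr (Or.inr (Or.inr (Or.inl
        ⟨F, i1, i2, inferInstance, Or.inl ⟨h3, ⟨e⟩⟩⟩)))))))
    · exact row_chevG2 h h2 e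
  · obtain ⟨F, i1, i2, q, hq, hF, ⟨e⟩⟩ := hK
    by_cases h2 : (2 : F) = 0
    · have := charP_two h2
      exact hchar (Or.inr (Or.inr (Or.inr (Or.inr (Or.inr (Or.inr (Or.inr (Or.inl
        ⟨F, i1, i2, inferInstance, q, hq, Or.inr ⟨hF, ⟨e⟩⟩⟩))))))))
    · obtain ⟨σ, -, ⟨c⟩⟩ := Cfsg.Agent.Cit.HexD4.exists_d4 hF
      exact false_of_hex c h2 (h.equiv e)
  · exact row_Ree h hK

end Cfsg.Agent.H511.LinFour
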